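import Cfsg.Agent.H713.Two.Sing_m3
import Cfsg.Agent.H701.ZerosAlt
import Cfsg.Agent.StandardComponent.AltAut
import Cfsg.Agent.H843.IMC.Co3A
import Cfsg.Agent.H547.SelfCent.Conway
import Cfsg.Agent.H393.Iso.Co3
import Cfsg.Agent.H701.SporCo3
import Cfsg.Agent.H419.Spor.Co2
import Cfsg.Agent.H843.IMC.Co2B
import Cfsg.Agent.H843.IMC.Co1B
import Cfsg.Agent.H393.Iso.Co2
import Cfsg.Agent.H393.Iso.Co1
import Cfsg.Agent.S0399
import Cfsg.Agent.S2069
import Cfsg.Agent.S2070
import Cfsg.Agent.FastGrp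
import Cfsg.Agent.Prune
set_option linter.all false

section
prune_inst 0x7ffffffcffafffffffff7e3fffd9fffe33c6cfffefdffb4bffe1efbfdfbf83f739e5fba51de4f8ffdef6e0be38b87853fb7eeeffaf6fdc7ffffdfff45ffbec4f976fbd0c71dfacb41ffe6ffff3f177ee7f3fffffffffffffffffffffffffffffffffffbfffff

-- part: H686/TZ/Alt
section
prune_inst 0x600000400000010200000000400002040200804000000000000000101000040000000048000000000000000000000000000000000028100000100c00000000002000000000000000000000000000000000000000000000000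
set_option linter.all false
open scoped Cfsg.Agent.FastGrp

/-!
# The alternating row of S4897

* `two_of_ti_col2` : a sharper form of `two_of_ti_col`;
* `rowT_alt` : `RowT (alternatingGroup (Fin n))` for `n ≥ 7`.
-/

set_option autoImplicit false
set_option linter.unusedSectionVars false

open scoped ComplexConjugate

namespace Cfsg.Agent.H686.TZ

open Cfsg Equiv Equiv.Perm Cfsg.Agent.Characters.Core Cfsg.Agent.H504.Zeros Cfsg.Agent.H504.ZeroTI
open Cfsg.Agent.H504.TwoZ

universe u v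

section Col

variable {G : Type u} [Group G]

/-- **One CC-subgroup** with at least two classes and one column `x` outside: `e + m + f ≤ k ≤ #classes`
(two of the `f` characters not vanishing at `x` do not vanish on the CC-subgroup). -/
theorem two_of_ti_col2 [Finite G] {A : Subgroup G} (hA : CC A) {e m k f : ℕ} (he : eIdx A = e)
    (hm : 2 ≤ m) (hem : Nat.card A = e * m + 1) (x : G)
    (hx : ∀ a ∈ A, a ≠ 1 → ¬ IsConj x a) (hf : nv x ≤ f) (hk : k ≤ Nat.card (ConjClasses G))
    (h : e + m + f ≤ k) : Two G := by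
  classical
  have := finite_irr (G := G)
  have := Fintype.ofFinite (IrrCharacter G)
  have := Fintype.ofFinite G
  obtain ⟨s, hs, hsm, hsA⟩ := exists_reps hA (he ▸ hem)
  have h1 := le_ncard_compl hA he (by omega) hem hk
  have h3 : ({χ : IrrCharacter G | (χ : G → ℂ) x ≠ 0}).ncard ≤ f := hf
  -- two characters in `NV A` do not vanish at `x`
  obtain ⟨a, haA, ha1⟩ : ∃ a ∈ A, a ≠ 1 := by
    obtain ⟨a, ha⟩ := Finset.card_pos.1 (show 0 < s.card by omega)
    exact ⟨a, (hsA a ha).1, (hsA a ha).2⟩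
  set χ₀ : IrrCharacter G := ⟨1, isIrr_one⟩ with hχ₀
  have horth : ∑ χ : IrrCharacter G, (χ : G → ℂ) x * conj ((χ : G → ℂ) a) = 0 := by
    have h4 := Cfsg.Agent.S0145.sum_irr_mul_conj x a
    rw [if_neg (hx a haA ha1)] at h4
    exact h4
  obtain ⟨χ₁, hne, hx1, hA1⟩ : ∃ χ₁ : IrrCharacter G, χ₁ ≠ χ₀ ∧ (χ₁ : G → ℂ) x ≠ 0 ∧ χ₁ ∈ NV A := by
    by_contra hcon
    push Not at hcon
    rw [Finset.sum_eq_single χ₀] at horth
    · rw [hχ₀] at horth
      simp at horth
    · intro χ _ hχ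
      by_cases h5 : (χ : G → ℂ) x = 0
      · rw [h5, zero_mul]
      · have h6 := hcon χ hχ h5
        rw [apply_eq_zero_of_compl h6 haA ha1, map_zero, mul_zero]
    · intro h'
      exact absurd (Finset.mem_univ _) h'
  have h0A : χ₀ ∈ NV A := by
    by_contra h5
    have h6 := apply_eq_zero_of_compl h5 haA ha1
    exact one_ne_zero h6
  have h4 : ({χ : IrrCharacter G | (χ : G → ℂ) x ≠ 0} ∩ (NV A)ᶜ).ncard + 2 ≤ f := by
    have h5 : ({χ : IrrCharacter G | (χ : G → ℂ) x ≠ 0} ∩ (NV A)ᶜ) ∪ {χ₀, χ₁} ⊆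
        {χ : IrrCharacter G | (χ : G → ℂ) x ≠ 0} := by
      rintro χ (h6 | h6)
      · exact h6.1
      · rcases h6 with rfl | h6
        · exact one_ne_zero
        · rw [Set.mem_singleton_iff] at h6
          rw [h6]
          exact hx1
    have h6 := Set.ncard_le_ncard h5 (Set.toFinite _)
    rw [Set.ncard_union_eq, Set.ncard_pair hne.symm] at h6
    · omega
    · rw [Set.disjoint_left]
      rintro χ h7 h8
      rcases h8 with rfl | h8
      · exact h7.2 h0A
      · rw [Set.mem_singleton_iff] at h8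
        rw [h8] at h7
        exact h7.2 hA1
  have h2 : 1 < (((NV A)ᶜ : Set (IrrCharacter G)) \ {χ | (χ : G → ℂ) x ≠ 0}).ncard := by
    have h5 : ((NV A)ᶜ : Set (IrrCharacter G)) \ {χ | (χ : G → ℂ) x ≠ 0} =
        ((NV A)ᶜ : Set (IrrCharacter G)) \ ({χ : IrrCharacter G | (χ : G → ℂ) x ≠ 0} ∩ (NV A)ᶜ) := by
      ext χ
      simp only [Set.mem_sdiff, Set.mem_compl_iff, Set.mem_inter_iff, not_and]
      (clear * -; tauto)
    rw [h5]
    have h6 := Set.le_ncard_sdiff ({χ : IrrCharacter G | (χ : G → ℂ) x ≠ 0} ∩ (NV A)ᶜ) ((NV A)ᶜ) (Set.toFinite _)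
    omega
  rw [Set.one_lt_ncard (Set.toFinite _)] at h2
  obtain ⟨a, ha, b, hb, hab⟩ := h2
  have hxs : x ∉ s := fun h => hx x (hsA x h).1 (hsA x h).2 (IsConj.refl x)
  have hns : NonConj (insert x s) := by
    intro g hg h hh hc
    rcases Finset.mem_insert.1 hg with h1 | hg' <;> rcases Finset.mem_insert.1 hh with h2 | hh'
    · rw [h1, h2]
    · rw [h1] at hc
      exact absurd hc (hx h (hsA h hh').1 (hsA h hh').2)
    · rw [h2] at hc
      exact absurd hc.symm (hx g (hsA g hg').1 (hsA g hg').2)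
    · exact hs g hg' h hh' hc
  have key : ∀ χ ∈ (((NV A)ᶜ : Set (IrrCharacter G)) \ {χ | (χ : G → ℂ) x ≠ 0}),
      ∀ g ∈ insert x s, (χ : G → ℂ) g = 0 := by
    intro χ hχ g hg
    rcases Finset.mem_insert.1 hg with rfl | hg
    · exact not_not.1 hχ.2
    · exact apply_eq_zero_of_compl hχ.1 (hsA g hg).1 (hsA g hg).2
  refine two_of_zeros hab (insert x s) (insert x s) hns hns (key a ha) (key b hb) ?_ ?_ <;>
    rw [Finset.card_insert_of_notMem hxs] <;> omega

/-- the same for a self-centralizing element of prime order `r` -/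
theorem two_of_prime_col2 [Finite G] {x : G} {r n e m k f : ℕ} (hr : r.Prime)
    (hx : orderOf x = r) (hc : Nat.card (Subgroup.centralizer ({x} : Set G)) = r) (hn : Nat.card G = r * n)
    (he : n % r = e) (hm : 2 ≤ m) (hem : r = e * m + 1) (y : G) (hy : orderOf y ≠ r) (hf : nv y ≤ f)
    (hk : k ≤ Nat.card (ConjClasses G)) (h : e + m + f ≤ k) : Two G := by
  have hA := cc_of_prime hr hx hc
  have cA : Nat.card (Subgroup.zpowers x) = r := by rw [Nat.card_zpowers, hx]
  have h1 := eIdx_eq_mod hA (by rw [cA]; exact hr.one_lt) (n := n) (by rw [hn, cA])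
  rw [cA, he] at h1
  refine two_of_ti_col2 hA h1 hm (by rw [cA, hem]) y ?_ hf hk h
  intro a ha ha1 hc'
  apply hy
  have h2 : orderOf y = orderOf a := by
    obtain ⟨c, rfl⟩ := isConj_iff.1 hc'
    exact ((MulAut.conj c).orderOf_eq y).symm
  have h3 : orderOf a ∣ r := by
    have := orderOf_dvd_natCard (⟨a, ha⟩ : Subgroup.zpowers x)
    rwa [← Subgroup.orderOf_coe, cA] at this
  rcases (Nat.dvd_prime hr).1 h3 with h4 | h4
  · exact absurd (orderOf_eq_one_iff.1 h4) ha1
  · rw [h2, h4]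

end Col

/-! ### the alternating groups -/

open Cfsg.Agent.H701.ZAlt

/-- two of the rows `(n - 1, 1)`, `(n - 2, 2)`, `(n - 2, 1, 1)` have three zeros -/
theorem two_of_rows {n : ℕ} (hn : 7 ≤ n) (T1 T2 T3 : Finset (Multiset ℕ))
    (h1 : ∀ t ∈ T1, Ok n t ∧ n - t.sum = 1)
    (h2 : ∀ t ∈ T2, Ok n t ∧ (n - t.sum) * (n - t.sum) + 2 * t.count 2 = 3 * (n - t.sum))
    (h3 : ∀ t ∈ T3, Ok n t ∧ (n - t.sum) * (n - t.sum) + 2 = 3 * (n - t.sum) + 2 * t.count 2)
    (h : (3 ≤ T1.card ∧ 3 ≤ T2.card) ∨ (3 ≤ T1.card ∧ 3 ≤ T3.card) ∨ (3 ≤ T2.card ∧ 3 ≤ T3.card)) :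
    Two (alternatingGroup (Fin n)) := by
  classical
  have htr := H621.AltChar.trans_alt hn
  have hc : Nat.card (Fin n) = n := by rw [Nat.card_eq_fintype_card, Fintype.card_fin]
  have i1 := H621.AltChar.irr_one (G := alternatingGroup (Fin n)) (Ω := Fin n) (by rw [hc]; omega) htr
  have i2 := H621.AltChar.irr_a (G := alternatingGroup (Fin n)) (Ω := Fin n) (by rw [hc]; omega) htr
  have i3 := H621.AltChar.irr_b (G := alternatingGroup (Fin n)) (Ω := Fin n) (by rw [hc]; omega) htr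
  let χ1 : IrrCharacter (alternatingGroup (Fin n)) := ⟨_, i1⟩
  let χ2 : IrrCharacter (alternatingGroup (Fin n)) := ⟨_, i2⟩
  let χ3 : IrrCharacter (alternatingGroup (Fin n)) := ⟨_, i3⟩
  have nf1 : ∀ t, Ok n t → H621.AltChar.nf (Fin n) (el n t) = n - t.sum := by
    intro t ht
    have := nf_alt (el n t)
    rw [el_type ht] at this
    omega
  have nu1 : ∀ t, Ok n t → H621.AltChar.nu (Fin n) (el n t) = 2 * t.count 2 := by
    intro t ht
    rw [nu_alt, el_type ht]
  have z1 : ∀ g ∈ T1.image (el n), (χ1 : _ → ℂ) g = 0 := by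
    intro g hg
    obtain ⟨t, ht, rfl⟩ := Finset.mem_image.1 hg
    obtain ⟨a, b⟩ := h1 t ht
    show ((H621.AltChar.nf (Fin n) (el n t) : ℕ) : ℂ) - 1 = 0
    rw [nf1 t a, b, Nat.cast_one, sub_self]
  have z2 : ∀ g ∈ T2.image (el n), (χ2 : _ → ℂ) g = 0 := by
    intro g hg
    obtain ⟨t, ht, rfl⟩ := Finset.mem_image.1 hg
    obtain ⟨a, b⟩ := h2 t ht
    show (((H621.AltChar.nf (Fin n) (el n t) : ℕ) : ℂ) ^ 2 - 3 * ((H621.AltChar.nf (Fin n) (el n t) : ℕ) : ℂ) +
      ((H621.AltChar.nu (Fin n) (el n t) : ℕ) : ℂ)) / 2 = 0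
    rw [nf1 t a, nu1 t a]
    have b' : ((n - t.sum : ℕ) : ℂ) * ((n - t.sum : ℕ) : ℂ) + 2 * (t.count 2 : ℂ) = 3 * ((n - t.sum : ℕ) : ℂ) := by
      exact_mod_cast b
    push_cast at b' ⊢
    linear_combination b' / 2
  have z3 : ∀ g ∈ T3.image (el n), (χ3 : _ → ℂ) g = 0 := by
    intro g hg
    obtain ⟨t, ht, rfl⟩ := Finset.mem_image.1 hg
    obtain ⟨a, b⟩ := h3 t ht
    show (((H621.AltChar.nf (Fin n) (el n t) : ℕ) : ℂ) ^ 2 - 3 * ((H621.AltChar.nf (Fin n) (el n t) : ℕ) : ℂ) + 2 -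
      ((H621.AltChar.nu (Fin n) (el n t) : ℕ) : ℂ)) / 2 = 0
    rw [nf1 t a, nu1 t a]
    have b' : ((n - t.sum : ℕ) : ℂ) * ((n - t.sum : ℕ) : ℂ) + 2 = 3 * ((n - t.sum : ℕ) : ℂ) + 2 * (t.count 2 : ℂ) := by
      exact_mod_cast b
    push_cast at b' ⊢
    linear_combination b' / 2
  have e1 := _root_.Cfsg.Agent.H701.ZAlt.nonConj_image T1 fun t ht => (h1 t ht).1
  have e2 := _root_.Cfsg.Agent.H701.ZAlt.nonConj_image T2 fun t ht => (h2 t ht).1
  have e3 := _root_.Cfsg.Agent.H701.ZAlt.nonConj_image T3 fun t ht => (h3 t ht).1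
  have k1 := card_image T1 fun t ht => (h1 t ht).1
  have k2 := card_image T2 fun t ht => (h2 t ht).1
  have k3 := card_image T3 fun t ht => (h3 t ht).1
  -- the three characters are different
  have o1 : (χ1 : alternatingGroup (Fin n) → ℂ) 1 = (n : ℂ) - 1 := by
    show ((H621.AltChar.nf (Fin n) (1 : alternatingGroup (Fin n)) : ℕ) : ℂ) - 1 = _
    rw [H621.AltChar.nf_one, hc]
  have o2 : (χ2 : alternatingGroup (Fin n) → ℂ) 1 = ((n : ℂ) ^ 2 - 3 * n) / 2 := by
    show (((H621.AltChar.nf (Fin n) (1 : alternatingGroup (Fin n)) : ℕ) : ℂ) ^ 2 -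
      3 * ((H621.AltChar.nf (Fin n) (1 : alternatingGroup (Fin n)) : ℕ) : ℂ) +
      ((H621.AltChar.nu (Fin n) (1 : alternatingGroup (Fin n)) : ℕ) : ℂ)) / 2 = _
    rw [H621.AltChar.nf_one, H621.AltChar.nu_one, hc, Nat.cast_zero, add_zero]
  have o3 : (χ3 : alternatingGroup (Fin n) → ℂ) 1 = ((n : ℂ) ^ 2 - 3 * n + 2) / 2 := by
    show (((H621.AltChar.nf (Fin n) (1 : alternatingGroup (Fin n)) : ℕ) : ℂ) ^ 2 -
      3 * ((H621.AltChar.nf (Fin n) (1 : alternatingGroup (Fin n)) : ℕ) : ℂ) + 2 -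
      ((H621.AltChar.nu (Fin n) (1 : alternatingGroup (Fin n)) : ℕ) : ℂ)) / 2 = _
    rw [H621.AltChar.nf_one, H621.AltChar.nu_one, hc, Nat.cast_zero, sub_zero]
  have n12 : χ1 ≠ χ2 := by
    intro e
    have h5 : ((n : ℂ) - 1) = ((n : ℂ) ^ 2 - 3 * n) / 2 := by rw [← o1, ← o2, e]
    have h6 : ((n * n + 2 : ℕ) : ℂ) = ((5 * n : ℕ) : ℂ) := by
      push_cast
      linear_combination -2 * h5
    have h7 : n * n + 2 = 5 * n := by exact_mod_cast h6
    nlinarith only [hn, h7]
  have n13 : χ1 ≠ χ3 := by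
    intro e
    have h5 : ((n : ℂ) - 1) = ((n : ℂ) ^ 2 - 3 * n + 2) / 2 := by rw [← o1, ← o3, e]
    have h6 : ((n * n + 4 : ℕ) : ℂ) = ((5 * n : ℕ) : ℂ) := by
      push_cast
      linear_combination -2 * h5
    have h7 : n * n + 4 = 5 * n := by exact_mod_cast h6
    nlinarith only [hn, h7]
  have n23 : χ2 ≠ χ3 := by
    intro e
    have h5 : ((n : ℂ) ^ 2 - 3 * n) / 2 = ((n : ℂ) ^ 2 - 3 * n + 2) / 2 := by rw [← o2, ← o3, e]
    have h6 : (0 : ℂ) = 1 := by linear_combination h5
    exact zero_ne_one h6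
  rcases h with ⟨a, b⟩ | ⟨a, b⟩ | ⟨a, b⟩
  · exact two_of_zeros n12 _ _ e1 e2 z1 z2 (by omega) (by omega)
  · exact two_of_zeros n13 _ _ e1 e3 z1 z3 (by omega) (by omega)
  · exact two_of_zeros n23 _ _ e2 e3 z2 z3 (by omega) (by omega)

theorem two_of_base {n m j : ℕ} (hn : 7 ≤ n) (hm : n = m + 2 * j + 1) (B : Finset (ℕ × Multiset ℕ))
    (hB : ∀ b ∈ B, 3 ≤ b.1 ∧ (∀ x ∈ b.2, 3 ≤ x ∧ x ≤ b.1) ∧ b.1 + b.2.sum = m ∧ Even (m + 1 + Multiset.card b.2))
    (h9 : 3 ≤ B.card) : Two (alternatingGroup (Fin n)) := by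
  classical
  set T := B.image fun b => (b.1 + 2 * j) ::ₘ b.2 with hT
  have hTc : 3 ≤ T.card := by
    rw [hT, Finset.card_image_of_injOn]
    · exact h9
    · intro b hb b' hb' e
      exact cons_inj (fun x hx => ((hB b hb).2.1 x hx).2) (fun x hx => ((hB b' hb').2.1 x hx).2) e
  have key : ∀ t ∈ T, t.sum + 1 = n ∧ Ok n t ∧ t.count 2 = 0 := by
    intro t ht
    obtain ⟨b, hb, rfl⟩ := Finset.mem_image.1 ht
    obtain ⟨h1, h2, h3, h4⟩ := hB b hb
    have h5 : ((b.1 + 2 * j) ::ₘ b.2).sum + 1 = n := by rw [Multiset.sum_cons]; omega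
    refine ⟨h5, ⟨by omega, ?_, ?_⟩, ?_⟩
    · intro a ha
      rcases Multiset.mem_cons.1 ha with h | h
      · omega
      · have := (h2 a h).1
        omega
    · rw [Multiset.sum_cons, Multiset.card_cons]
      have h5 : b.1 + 2 * j + b.2.sum + (Multiset.card b.2 + 1) = (m + 1 + Multiset.card b.2) + 2 * j := by omega
      rw [h5]
      exact h4.add (even_two_mul j)
    · rw [Multiset.count_eq_zero]
      intro ha
      rcases Multiset.mem_cons.1 ha with h | h
      · omega
      · have := (h2 2 h).1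
        omega
  refine two_of_rows hn T ∅ T ?_ ?_ ?_ (Or.inr (Or.inl ⟨hTc, hTc⟩))
  · intro t ht
    obtain ⟨h1, h2, -⟩ := key t ht
    exact ⟨h2, by omega⟩
  · intro t ht
    exact absurd ht (Finset.notMem_empty _)
  · intro t ht
    obtain ⟨h1, h2, h3⟩ := key t ht
    refine ⟨h2, ?_⟩
    have : n - t.sum = 1 := by omega
    rw [this, h3]

def evB : Finset (ℕ × Multiset ℕ) := {(9, {3}), (8, {4}), (7, {5}), (6, {6})}

def odB : Finset (ℕ × Multiset ℕ) := {(13, 0), (7, {3, 3}), (6, {4, 3}), (5, {5, 3})}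

theorem two_large {n : ℕ} (hn : 13 ≤ n) : Two (alternatingGroup (Fin n)) := by
  rcases Nat.even_or_odd n with h | h
  · obtain ⟨j, hj⟩ : ∃ j, n = 13 + 2 * j + 1 := by
      obtain ⟨k, hk⟩ := h
      exact ⟨k - 7, by omega⟩
    exact two_of_base (by omega) hj odB (by decide) (by decide)
  · obtain ⟨j, hj⟩ : ∃ j, n = 12 + 2 * j + 1 := by
      obtain ⟨k, hk⟩ := h
      exact ⟨k - 6, by omega⟩
    exact two_of_base (by omega) hj evB (by decide) (by decide)

theorem two_eight : Two (alternatingGroup (Fin 8)) := by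
  refine two_of_rows (by norm_num) ∅ {{5, 3}, {4, 4}, {4, 2}, {5}} {{7}, {3, 3}, {6, 2}} ?_ ?_ ?_ ?_ <;> decide

theorem two_nine : Two (alternatingGroup (Fin 9)) := by
  refine two_of_rows (by norm_num) {{6, 2}, {5, 3}, {4, 4}} ∅ {{5, 3}, {4, 4}, {7}} ?_ ?_ ?_ ?_ <;> decide

theorem two_ten : Two (alternatingGroup (Fin 10)) := by
  refine two_of_rows (by norm_num) {{9}, {5, 2, 2}, {4, 3, 2}} ∅ {{9}, {8, 2}, {5, 3}} ?_ ?_ ?_ ?_ <;> decide

theorem two_eleven : Two (alternatingGroup (Fin 11)) := by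
  refine two_of_rows (by norm_num) {{8, 2}, {7, 3}, {6, 4}} {{11}, {8, 2}, {5, 3, 3}} ∅ ?_ ?_ ?_ ?_ <;> decide

theorem two_twelve : Two (alternatingGroup (Fin 12)) := by
  refine two_of_rows (by norm_num) {{11}, {7, 2, 2}, {6, 3, 2}} {{9, 3}, {9}, {8, 4}} ∅ ?_ ?_ ?_ ?_ <;> decide

theorem two_seven : Two (alternatingGroup (Fin 7)) := by
  classical
  have hc := seven_cent (n := 7) (Or.inl rfl)
  have ho : orderOf (el 7 {7}) = 7 := by rw [order_el (by decide)]; decide
  have hk := H701.ZCols.classes_of_prime (by norm_num) ho hc card_seven (e := 3) (m := 2) (by norm_num) (by norm_num)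
    (({0, {3}, {5}, {2, 2}, {3, 3}, {4, 2}, {3, 2, 2}} : Finset (Multiset ℕ)).image (el 7))
    (_root_.Cfsg.Agent.H701.ZAlt.nonConj_image _ (by decide)) (order_ne _ (by decide) (by decide))
  rw [card_image _ (by decide), show (({0, {3}, {5}, {2, 2}, {3, 3}, {4, 2}, {3, 2, 2}} :
    Finset (Multiset ℕ)).card) = 7 by decide] at hk
  refine two_of_prime_col2 (k := 9) (f := 4) (by norm_num) ho hc card_seven (e := 3) (m := 2) (by norm_num)
    (by norm_num) (by norm_num) (el 7 {4, 2}) ?_ ?_ hk (by norm_num)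
  · rw [order_el (by decide)]
    decide
  · exact (nv_le_card_centralizer _).trans (cent_el_le (b := 4) (by decide) (Or.inl (by decide)) (by decide))

theorem row1_alt {n : ℕ} (hn : 7 ≤ n) : Two (alternatingGroup (Fin n)) := by
  rcases Nat.lt_or_ge n 13 with h | h
  · interval_cases n
    · exact two_seven
    · exact two_eight
    · exact two_nine
    · exact two_ten
    · exact two_eleven
    · exact two_twelve
  · exact two_large h

/-! ### the symmetric groups -/

theorem nf_perm {n : ℕ} (x : Perm (Fin n)) : H621.AltChar.nf (Fin n) x + x.cycleType.sum = n := by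
  classical
  rw [H621.AltChar.nf, Nat.card_eq_fintype_card, Fintype.card_subtype, Equiv.Perm.sum_cycleType]
  have h1 : (Finset.univ.filter fun a : Fin n => x • a = a) = (x : Perm (Fin n)).supportᶜ := by
    ext a
    rw [Finset.mem_filter, Finset.mem_compl, Equiv.Perm.mem_support, not_not]
    exact ⟨fun h => h.2, fun h => ⟨Finset.mem_univ _, h⟩⟩
  rw [h1, Finset.card_compl, Fintype.card_fin]
  have := Finset.card_le_univ (x : Perm (Fin n)).support
  rw [Fintype.card_fin] at this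
  omega

theorem alt_ne_top {n : ℕ} (hn : 2 ≤ n) : (alternatingGroup (Fin n) : Subgroup (Perm (Fin n))) ≠ ⊤ := by
  intro h
  have : Nontrivial (Fin n) := Fin.nontrivial_iff_two_le.2 hn
  have h1 : (alternatingGroup (Fin n)).index = 2 := alternatingGroup.index_eq_two
  rw [h, Subgroup.index_top] at h1
  norm_num at h1

theorem two_perm {n : ℕ} (hn : 7 ≤ n) : Two (Perm (Fin n)) := by
  classical
  have hc : Nat.card (Fin n) = n := by rw [Nat.card_eq_fintype_card, Fintype.card_fin]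
  have htr : MulAction.IsMultiplyPretransitive (Perm (Fin n)) (Fin n) 4 :=
    Equiv.Perm.isMultiplyPretransitive (Fin n) 4
  have i1 := H621.AltChar.irr_one (G := Perm (Fin n)) (Ω := Fin n) (by rw [hc]; omega) htr
  have i2 := H621.AltChar.irr_one (G := alternatingGroup (Fin n)) (Ω := Fin n) (by rw [hc]; omega)
    (H621.AltChar.trans_alt hn)
  have hne := alt_ne_top (n := n) (by omega)
  let χ : IrrCharacter (Perm (Fin n)) := ⟨_, i1⟩
  refine two_of_gallagher (χ := χ) (alternatingGroup (Fin n)) hne i2 ?_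
  -- three cycle types
  have hex : ∀ t : Multiset ℕ, t.sum ≤ n → (∀ a ∈ t, 2 ≤ a) → ∃ x : Perm (Fin n), x.cycleType = t := by
    intro t h1 h2
    exact (Equiv.Perm.exists_with_cycleType_iff (Fin n)).2 ⟨by rw [Fintype.card_fin]; exact h1, h2⟩
  obtain ⟨a, ha⟩ := hex {n - 1} (by simp only [_root_.Multiset.sum_singleton, _root_.tsub_le_iff_right, _root_.le_add_iff_nonneg_right, _root_.zero_le]) (by simp; omega)
  obtain ⟨b, hb⟩ := hex {n - 3, 2} (by simp; omega) (by simp; omega)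
  obtain ⟨c, hcc⟩ := hex {n - 4, 3} (by simp; omega) (by simp only [_root_.Multiset.insert_eq_cons, _root_.Multiset.mem_cons, _root_.Multiset.mem_singleton, _root_.forall_eq_or_imp, _root_.forall_eq, _root_.Nat.reduceLeDiff, _root_.and_true]; omega)
  have hsum : ∀ x : Perm (Fin n), x.cycleType.sum + 1 = n → (χ : Perm (Fin n) → ℂ) x = 0 := by
    intro x hx
    have h1 := nf_perm x
    have h2 : H621.AltChar.nf (Fin n) x = 1 := by omega
    show ((H621.AltChar.nf (Fin n) x : ℕ) : ℂ) - 1 = 0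
    rw [h2, Nat.cast_one, sub_self]
  have hnc : ∀ x y : Perm (Fin n), x.cycleType ≠ y.cycleType → ¬ IsConj x y := by
    intro x y h hc
    exact h (Equiv.Perm.isConj_iff_cycleType_eq.1 hc)
  have hcd : ∀ x y : Perm (Fin n), x.cycleType ≠ y.cycleType → x ≠ y := by
    rintro x y h rfl
    exact h rfl
  have hab : a.cycleType ≠ b.cycleType := by
    rw [ha, hb]
    intro h
    have := congrArg Multiset.card h
    simp at this
  have hac : a.cycleType ≠ c.cycleType := by
    rw [ha, hcc]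
    intro h
    have := congrArg Multiset.card h
    simp at this
  have hbc : b.cycleType ≠ c.cycleType := by
    rw [hb, hcc]
    intro h
    have h1 : 2 ∈ ({n - 4, 3} : Multiset ℕ) := by rw [← h]; simp
    simp at h1
    omega
  refine le_trans ?_ (le_zc (χ := χ) (s := {a, b, c}) ?_ ?_)
  · rw [Finset.card_insert_of_notMem, Finset.card_insert_of_notMem, Finset.card_singleton]
    · simpa using hcd b c hbc
    · simp only [Finset.mem_insert, Finset.mem_singleton, not_or]
      exact ⟨hcd a b hab, hcd a c hac⟩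
  · intro g hg h hh hc
    simp only [Finset.mem_insert, Finset.mem_singleton] at hg hh
    rcases hg with rfl | rfl | rfl <;> rcases hh with rfl | rfl | rfl <;>
      [rfl; exact absurd hc (hnc _ _ hab); exact absurd hc (hnc _ _ hac); exact absurd hc.symm (hnc _ _ hab); rfl; exact absurd hc (hnc _ _ hbc);
       exact absurd hc.symm (hnc _ _ hac); exact absurd hc.symm (hnc _ _ hbc); rfl]
  · intro g hg
    simp only [Finset.mem_insert, Finset.mem_singleton] at hg
    rcases hg with rfl | rfl | rfl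
    · apply hsum; rw [ha]; simp only [_root_.Multiset.sum_singleton]; omega
    · apply hsum; rw [hb]; simp; omega
    · apply hsum; rw [hcc]; simp; omega

/-- an almost simple group with socle `Aₙ`, `n ≥ 7`, different from its socle, is `Sₙ` -/
theorem equiv_perm {n : ℕ} (hn : 7 ≤ n) {G : Type u} [Group G] [Finite G] (N : Subgroup G) [N.Normal]
    (e : N ≃* alternatingGroup (Fin n)) (hC : Subgroup.centralizer (N : Set G) = ⊥) (hN : N ≠ ⊤) :
    Nonempty (G ≃* Perm (Fin n)) := by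
  classical
  obtain ⟨ψ, hψ⟩ := Cfsg.Agent.StandardComponent.AltAut.exists_autHom n hn
  let c : G →* MulAut (alternatingGroup (Fin n)) := (MulAut.congr e).toMonoidHom.comp (MulAut.conjNormal (H := N))
  have hc : ∀ (g : G) (x : alternatingGroup (Fin n)), c g x = e (MulAut.conjNormal g (e.symm x)) := fun g x => rfl
  let φ : G →* Perm (Fin n) := ψ.comp c
  have hφ : ∀ (g : G) (x : alternatingGroup (Fin n)),
      ((e (MulAut.conjNormal g (e.symm x)) : alternatingGroup (Fin n)) : Perm (Fin n)) = φ g * x * (φ g)⁻¹ := by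
    intro g x
    rw [← hc]
    exact hψ (c g) x
  have hinj : Function.Injective φ := by
    rw [injective_iff_map_eq_one]
    intro g hg
    have h1 : g ∈ Subgroup.centralizer (N : Set G) := by
      rw [Subgroup.mem_centralizer_iff]
      intro x hx
      have h2 := hφ g (e ⟨x, hx⟩)
      rw [hg, one_mul, inv_one, mul_one, e.symm_apply_apply] at h2
      have h3 := e.injective (Subtype.ext h2)
      have h4 : g * x * g⁻¹ = x := by
        have := congrArg Subtype.val h3
        rwa [MulAut.conjNormal_apply] at this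
      calc x * g = g * x * g⁻¹ * g := by rw [h4]
        _ = g * x := by group
    rw [hC] at h1
    exact Subgroup.mem_bot.1 h1
  have hfin : Finite (Perm (Fin n)) := inferInstance
  -- the order of `G`
  have hcardN : Nat.card N = Nat.card (alternatingGroup (Fin n)) := Nat.card_congr e.toEquiv
  have hA : 2 * Nat.card (alternatingGroup (Fin n)) = Nat.card (Perm (Fin n)) := by
    have h1 := (alternatingGroup (Fin n)).index_mul_card
    have : Nontrivial (Fin n) := Fin.nontrivial_iff_two_le.2 (by omega)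
    rw [alternatingGroup.index_eq_two] at h1
    exact h1
  have h1 : Nat.card G = Nat.card φ.range := Nat.card_congr (MonoidHom.ofInjective hinj).toEquiv
  have h2 : Nat.card φ.range ∣ Nat.card (Perm (Fin n)) := Subgroup.card_subgroup_dvd_card _
  have h3 := N.index_mul_card
  have h4 : N.index ≠ 1 := fun h => hN (Subgroup.index_eq_one.1 h)
  have h5 : N.index ≠ 0 := Subgroup.index_ne_zero_of_finite
  have h6 : N.index * Nat.card (alternatingGroup (Fin n)) ∣ 2 * Nat.card (alternatingGroup (Fin n)) := by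
    rw [hA, ← hcardN, h3, h1]
    exact h2
  have h7 : 0 < Nat.card (alternatingGroup (Fin n)) := Nat.card_pos
  have h8 : N.index ∣ 2 := Nat.dvd_of_mul_dvd_mul_right h7 h6
  have h9 : N.index = 2 := ((Nat.dvd_prime Nat.prime_two).1 h8).resolve_left h4
  have h10 : Nat.card G = Nat.card (Perm (Fin n)) := by rw [← h3, h9, hcardN, hA]
  exact ⟨MulEquiv.ofBijective φ ((Nat.bijective_iff_injective_and_card φ).2 ⟨hinj, h10⟩)⟩

/-- **The alternating row.** -/
theorem rowT_alt (n : ℕ) (hn : 7 ≤ n) : RowT (alternatingGroup (Fin n)) := by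
  refine ⟨Or.inl (row1_alt hn), ?_⟩
  rintro G _ _ N _ ⟨e⟩ hC - hN
  obtain ⟨f⟩ := equiv_perm hn N e hC hN
  exact Or.inl ((two_perm hn).of_equiv f)

end Cfsg.Agent.H686.TZ
end

-- part: H978/TZ/Co3
section
prune_inst 0x3004000000000004000200000000100000000000000080040000010000208000a800002000000020080020000000001004000000000000000000002006090002000001000000000000000081100000000000000000000000000000000000000400000
set_option linter.all false
open scoped Cfsg.Agent.FastGrp

/-!
# S4897: the row of `Co3` (helper978)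
-/

set_option autoImplicit false

namespace Cfsg.Agent.H978.TZ.Co3

open Cfsg Subgroup Cfsg.Agent.H504.TwoZ Cfsg.Agent.H504.Zeros Cfsg.Agent.Characters.Core
open Cfsg.Agent.H419.Spor.Co3 Cfsg.Agent.H419.Spor.Mathieu Cfsg.Agent.H843.IMC.Co3A Cfsg.Agent.H707.RowCo3
open Cfsg.Agent.SporadicA.GolayBase Cfsg.Agent.SporadicA.Co0Mono Cfsg.Agent.Leech.Basic

/-- the permutation of order 14 -/
noncomputable abbrev σ : Equiv.Perm GolayPt := cubeTwist * M * T

/-- the cycle of a point -/
def lab : GolayPt → Fin 4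
  | none => 0
  | some t => if t = 1 ∨ t = 2 then 1 else
      if t = 3 ∨ t = 16 ∨ t = 19 ∨ t = 11 ∨ t = 18 ∨ t = 15 ∨ t = 12 then 2 else 3

def rep (j : Fin 4) : GolayPt := if j = 0 then none else if j = 1 then some 1 else if j = 2 then some 3 else some 0

theorem lab_cyc : ∀ p : GolayPt, ∃ k < 14, (σ ^ k) (rep (lab p)) = p := by decide +kernel

theorem card_lab : ∀ j : Fin 4, (Finset.univ.filter fun p : GolayPt => lab p = j).card =
    if j = 0 then 1 else if j = 1 then 2 else if j = 2 then 7 else 14 := by decide +kernel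

theorem lab_inv : ∀ p : GolayPt, lab (σ p) = lab p := by decide +kernel

theorem lab_some : ∀ t : ZMod 23, lab (some t) ≠ 0 := by decide +kernel

theorem sum_lab (F : Fin 4 → ℤ) : ∑ p : GolayPt, F (lab p) = F 0 + 2 * F 1 + 7 * F 2 + 14 * F 3 := by
  classical
  rw [← Finset.sum_fiberwise (s := (Finset.univ : Finset GolayPt)) (g := lab)]
  have h1 : ∀ j : Fin 4, ∑ p ∈ Finset.univ.filter (fun p : GolayPt => lab p = j), F (lab p) =
      ((Finset.univ.filter fun p : GolayPt => lab p = j).card : ℤ) * F j := by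
    intro j
    rw [Finset.sum_congr rfl fun p hp => by rw [(Finset.mem_filter.1 hp).2], Finset.sum_const, nsmul_eq_mul]
  rw [Finset.sum_congr rfl fun j _ => h1 j]
  simp only [card_lab]
  rw [Fin.sum_univ_four]
  simp

/-- the vector `(-2, -2^7, 0^16)` -/
def vecW (p : GolayPt) : ℤ := if lab p = 0 ∨ lab p = 2 then -2 else 0

theorem vecW_mem : vecW ∈ leechLattice := by
  rw [mem_leech_iff]
  refine ⟨0, by decide +kernel, by decide +kernel, fun k => ?_⟩
  rw [mem_supports_iff]
  have h1 : (Finset.univ.filter fun i => vecW i ≡ k [ZMOD 4]) =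
      (Finset.univ.filter fun i => vecW i ≡ k % 4 [ZMOD 4]) := by
    apply Finset.filter_congr
    intro i _
    unfold Int.ModEq
    rw [Int.emod_emod_of_dvd _ (dvd_refl 4)]
  rw [h1]
  have h2 : k % 4 = 0 ∨ k % 4 = 1 ∨ k % 4 = 2 ∨ k % 4 = 3 := by omega
  rcases h2 with h | h | h | h <;> rw [h] <;> decide +kernel

noncomputable def w0 : X := ⟨⟨vecW, vecW_mem⟩, by
  constructor
  · show sqNorm vecW = 32
    decide +kernel
  · show sqNorm (Spor.vecV - vecW) = 32
    decide +kernel⟩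

/-- a fixed vector is constant on the cycles -/
theorem const {x : X} (h : k y14 • x = x) (p : GolayPt) :
    (x.1 : GolayPt → ℤ) p = (x.1 : GolayPt → ℤ) (rep (lab p)) := by
  have h1 : ∀ q, (x.1 : GolayPt → ℤ) (σ q) = (x.1 : GolayPt → ℤ) q := by
    intro q
    have h2 : ((k y14 • x : X).1 : GolayPt → ℤ) = (x.1 : GolayPt → ℤ) := by rw [h]
    have h3 := congrFun h2 (σ q)
    rw [← h3]
    show (x.1 : GolayPt → ℤ) (σ.symm (σ q)) = _
    rw [Equiv.symm_apply_apply]
  have h2 : ∀ (n : ℕ) q, (x.1 : GolayPt → ℤ) ((σ ^ n) q) = (x.1 : GolayPt → ℤ) q := by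
    intro n
    induction n with
    | zero => intro q; rfl
    | succ n ih => intro q; rw [pow_succ', Equiv.Perm.mul_apply, h1, ih]
  obtain ⟨n, -, hn⟩ := lab_cyc p
  rw [← hn, h2, hn]

theorem smul_w0 : k y14 • w0 = w0 := by
  apply Subtype.ext
  apply Subtype.ext
  funext p
  show vecW (σ.symm p) = vecW p
  have h := lab_inv (σ.symm p)
  rw [Equiv.apply_symm_apply] at h
  unfold vecW
  rw [h]

theorem sol {a b c d : ℤ} (h1 : a ^ 2 + 2 * b ^ 2 + 7 * c ^ 2 + 14 * d ^ 2 = 32)
    (h2 : 5 * a + 2 * b + 7 * c + 14 * d = -24) : (a = -2 ∧ b = 0 ∧ c = -2 ∧ d = 0) ∨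
      (a = -3 ∧ b = -1 ∧ c = 1 ∧ d = -1) := by
  have hd : -1 ≤ d ∧ d ≤ 1 := ⟨by nlinarith only [h1, sq_nonneg a, sq_nonneg b, sq_nonneg c],
    by nlinarith only [h1, sq_nonneg a, sq_nonneg b, sq_nonneg c]⟩
  have hc : -2 ≤ c ∧ c ≤ 2 := ⟨by nlinarith only [h1, sq_nonneg a, sq_nonneg b, sq_nonneg d],
    by nlinarith only [h1, sq_nonneg a, sq_nonneg b, sq_nonneg d]⟩
  have hb : -4 ≤ b ∧ b ≤ 4 := ⟨by nlinarith only [h1, sq_nonneg a, sq_nonneg c, sq_nonneg d],
    by nlinarith only [h1, sq_nonneg a, sq_nonneg c, sq_nonneg d]⟩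
  obtain ⟨hd1, hd2⟩ := hd
  obtain ⟨hc1, hc2⟩ := hc
  obtain ⟨hb1, hb2⟩ := hb
  have ha : -5 ≤ a ∧ a ≤ 5 := ⟨by nlinarith only [h1, sq_nonneg b, sq_nonneg c, sq_nonneg d],
    by linarith only [h2, hd1, hc1, hb1]⟩
  obtain ⟨ha1, ha2⟩ := ha
  interval_cases d <;> interval_cases c <;> interval_cases b <;> first | (clear * - h2 ha1 ha2; omega) | (interval_cases a <;> (clear * - h1 h2; omega))

theorem fix_cases {x : X} (h : k y14 • x = x) : x = w0 ∨ x = opp w0 := by
  set F : Fin 4 → ℤ := fun j => (x.1 : GolayPt → ℤ) (rep j) with hF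
  have hc : ∀ p, (x.1 : GolayPt → ℤ) p = F (lab p) := const h
  have h1 : F 0 ^ 2 + 2 * F 1 ^ 2 + 7 * F 2 ^ 2 + 14 * F 3 ^ 2 = 32 := by
    rw [← sum_lab fun j => F j ^ 2]
    rw [← x.2.1]
    exact Finset.sum_congr rfl fun p _ => by rw [hc p]
  have h2 : 5 * F 0 + 2 * F 1 + 7 * F 2 + 14 * F 3 = -24 := by
    have h3 : dotInt (x.1 : GolayPt → ℤ) (Spor.leechV : GolayPt → ℤ) = 24 := by
      have h4 := x.2.2
      rw [sqNorm_sub, normV, x.2.1, dotInt_comm] at h4
      linarith only [h4]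
    have h5 : dotInt (x.1 : GolayPt → ℤ) (Spor.leechV : GolayPt → ℤ) =
        -(∑ p : GolayPt, (fun j : Fin 4 => if j = 0 then 5 * F j else F j) (lab p)) := by
      rw [← Finset.sum_neg_distrib]
      refine Finset.sum_congr rfl fun p _ => ?_
      rw [hc p]
      show F (lab p) * Spor.vecV p = _
      rcases p with _ | t
      · show F 0 * (-5) = -(if (0 : Fin 4) = 0 then 5 * F 0 else F 0)
        rw [if_pos rfl]; ring
      · have h6 : lab (some t) ≠ 0 := lab_some t
        show F (lab (some t)) * (-1) = -(if lab (some t) = 0 then 5 * F (lab (some t)) else F (lab (some t)))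
        rw [if_neg h6]; ring
    rw [h5, sum_lab fun j : Fin 4 => if j = 0 then 5 * F j else F j] at h3
    simp only [_root_.Fin.isValue, ↓ _root_.reduceIte, _root_.one_ne_zero, _root_.Fin.reduceEq, _root_.neg_add_rev] at h3
    linarith only [h3]
  rcases sol h1 h2 with ⟨ha, hb, hc', hd⟩ | ⟨ha, hb, hc', hd⟩
  · left
    apply Subtype.ext
    apply Subtype.ext
    funext p
    rw [hc p]
    show F (lab p) = if lab p = 0 ∨ lab p = 2 then -2 else 0
    generalize lab p = j
    fin_cases j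
    · exact ha
    · exact hb
    · exact hc'
    · exact hd
  · right
    apply Subtype.ext
    apply Subtype.ext
    funext p
    rw [hc p]
    have h7 : ∀ q : GolayPt, Spor.vecV q - vecW q = if lab q = 0 then -3 else if lab q = 1 then -1 else
        if lab q = 2 then 1 else -1 := by decide +kernel
    show F (lab p) = Spor.vecV p - vecW p
    rw [h7]
    generalize lab p = j
    fin_cases j
    · exact ha
    · exact hb
    · exact hc'
    · exact hd

theorem fix_one : Nat.card (MulAction.fixedBy Y (k y14)) = 1 := by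
  rw [Nat.card_eq_one_iff_unique]
  constructor
  · constructor
    have key : ∀ y : MulAction.fixedBy Y (k y14), (y : Y) = Quotient.mk st w0 := by
      rintro ⟨y, hy⟩
      obtain ⟨x, rfl⟩ := Quotient.exists_rep y
      have h1 : k y14 • (Quotient.mk st x : Y) = Quotient.mk st x := hy
      rw [smul_mk] at h1
      show (Quotient.mk st x : Y) = Quotient.mk st w0
      rcases (mk_eq _ _).1 h1 with h2 | h2
      · rcases fix_cases h2.symm with rfl | rfl
        · rfl
        · exact (mk_eq _ _).2 (Or.inr (opp_opp _).symm)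
      · exfalso
        have h5 : σ.symm none = none := by
          rw [Equiv.symm_apply_eq]
          exact (show none = σ none by decide +kernel)
        have h3 : (x.1 : GolayPt → ℤ) none = Spor.vecV none - (x.1 : GolayPt → ℤ) (σ.symm none) :=
          congrArg (fun z : X => (z.1 : GolayPt → ℤ) none) h2
        rw [h5] at h3
        have h4 : Spor.vecV none = -5 := rfl
        omega
    intro a b
    exact Subtype.ext ((key a).trans (key b).symm)
  · exact ⟨⟨Quotient.mk st w0, by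
      show k y14 • (Quotient.mk st w0 : Y) = _
      rw [smul_mk, smul_w0]⟩⟩

theorem card_cent {x : Spor.Co3} (hx : orderOf x = 23) : Nat.card (centralizer ({x} : Set Spor.Co3)) = 23 :=
  Cfsg.Agent.H547.SelfCent.Conway.co3 ⟨MulEquiv.refl _⟩ Cfsg.Agent.H393.Iso.na_co3_model hx

open Cfsg.Agent.SporRec.Co3.Chain in
theorem exists22 : ∃ g : Spor.Co3, orderOf g = 22 := by
  have e' : G3 ≃* Spor.Co3 := Cfsg.Agent.SporRec.Co3.Model.equivCo3
  have : Finite G3 := Finite.of_equiv _ e'.symm.toEquiv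
  obtain ⟨w, hw, hw1, -, hdvd⟩ := Cfsg.Agent.H701.exists_w_co3
  have hp : Fact (Nat.Prime 11) := ⟨by norm_num⟩
  obtain ⟨y, hy⟩ := exists_prime_orderOf_dvd_card' 11 (G := centralizer ({w} : Set G3))
    ((by norm_num : 11 ∣ 95040).trans hdvd)
  have ho : orderOf (y : G3) = 11 := by rw [Subgroup.orderOf_coe, hy]
  have h2 : orderOf w = 2 := orderOf_eq_prime (by rw [pow_two, hw]) hw1
  have hc : Commute w (y : G3) := Subgroup.mem_centralizer_singleton_iff.1 y.2 |>.symm
  refine ⟨e' (w * y), ?_⟩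
  rw [MulEquiv.orderOf_eq, hc.orderOf_mul_eq_mul_orderOf_of_coprime (by rw [h2, ho]; norm_num), h2, ho]

theorem row1 : Row1 Spor.Co3 := by
  left
  have c : Nat.card Spor.Co3 = 495766656000 := card_co3
  obtain ⟨μ, hμ⟩ := exists_mu
  obtain ⟨χ, hχ⟩ := Cfsg.Agent.H419.TwoTrans.exists_irr (G := Spor.Co3) Y two_trans (by rw [card_Y]; norm_num)
  have dμ : charDegree (μ : Spor.Co3 → ℂ) = 23 := by
    refine Cfsg.Agent.H670.PSing.charDegree_eq_of ?_
    have h1 := hμ 1
    have h6 : Cfsg.Agent.H419.LeechIrr.lchi inc 1 = 24 := by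
      rw [Cfsg.Agent.H419.LeechIrr.lchi, map_one, Cfsg.Agent.SigZeroCo2.Lin.tr8_one]
      norm_num
    rw [h6] at h1
    push_cast
    linear_combination -h1
  have dχ : charDegree (χ : Spor.Co3 → ℂ) = 275 := by
    refine Cfsg.Agent.H670.PSing.charDegree_eq_of ?_
    rw [hχ, MulAction.fixedBy_one_eq_univ, Nat.card_coe_set_eq, Set.ncard_univ, card_Y]
    norm_num
  refine ⟨μ, χ, ?_, ?_, ?_⟩
  · rintro rfl
    omega
  · have hp : Fact (Nat.Prime 23) := ⟨by norm_num⟩
    obtain ⟨x, hx⟩ := exists_prime_orderOf_dvd_card' 23 (G := Spor.Co3) (by rw [c]; norm_num)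
    refine three_of_isolated (r := 23) (n := 21555072000) (e := 11) (m := 2) (by norm_num) hx (card_cent hx)
      (by rw [c]) (by rw [c]; norm_num) (by norm_num) (by norm_num) (by norm_num) (by rw [dμ]) (y := k y14) ?_
      (by rw [order]; norm_num)
    have h1 := hμ (k y14)
    rw [Cfsg.Agent.H419.LeechFix.lchi_perm inc (inc_k y14)] at h1
    have h2 : Nat.card (MulAction.fixedBy GolayPt (y14 : M24)) = 1 := x14_fix
    rw [h2] at h1
    simpa using h1
  · have z11 : ∀ g : Spor.Co3, 11 ∣ orderOf g → (χ : Spor.Co3 → ℂ) g = 0 := fun g hg =>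
      zero_of_dvd (by norm_num) (by rw [c]; norm_num) (by rw [dχ]; norm_num) hg
    obtain ⟨g, hg⟩ := exists22
    refine three_of_orders {11, 22, 14} (by decide) fun n hn => ?_
    simp only [Finset.mem_insert, Finset.mem_singleton] at hn
    rcases hn with rfl | rfl | rfl
    · have h11 : orderOf (g ^ 2) = 11 := by
        rw [orderOf_pow' g (by norm_num), hg]; norm_num
      exact ⟨g ^ 2, h11, z11 _ (by rw [h11])⟩
    · exact ⟨g, hg, z11 g (by rw [hg]; norm_num)⟩
    · refine ⟨k y14, order, ?_⟩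
      rw [hχ, fix_one]
      norm_num

theorem rowT : RowT Spor.Co3 := ⟨row1, row2_of_out_one Cfsg.Agent.S2071.result⟩

/-- **the row of `Co3`** -/
theorem co3 {S : Type} [Group S] (h : Spor.IsoCo3 S) : RowT S := by
  obtain ⟨e⟩ := h
  have : Finite S := Finite.of_equiv _ e.symm.toEquiv
  exact RowT.of_equiv e rowT

end Cfsg.Agent.H978.TZ.Co3
end

-- part: H978/TZ/Co12
section
set_option linter.all false
open scoped Cfsg.Agent.FastGrp

/-!
# S4897: the rows of `Co2` and `Co1` (helper978)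
-/

set_option autoImplicit false

namespace Cfsg.Agent.H978.TZ.Co12

open Cfsg Subgroup Cfsg.Agent.H504.TwoZ Cfsg.Agent.H504.Zeros Cfsg.Agent.Characters.Core

theorem card_cent2 [Finite Spor.Co2] {x : Spor.Co2} (hx : orderOf x = 23) :
    Nat.card (centralizer ({x} : Set Spor.Co2)) = 23 :=
  Cfsg.Agent.H547.SelfCent.Conway.co2 ⟨MulEquiv.refl _⟩ Cfsg.Agent.H393.Iso.na_co2_model hx

theorem row1_co2 : Row1 Spor.Co2 := by
  left
  have c : Nat.card Spor.Co2 = 42305421312000 := Cfsg.Agent.BiChar.Small.card_Co2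
  have hfin : Finite Spor.Co2 := Nat.finite_of_card_ne_zero (by rw [c]; norm_num)
  obtain ⟨χ, dχ⟩ := Cfsg.Agent.H843.IMC.Co2A.hasDeg_2024_275.1
  obtain ⟨ψ, dψ⟩ := Cfsg.Agent.H843.IMC.Co2B.hasDeg_2277
  have hp : Fact (Nat.Prime 23) := ⟨by norm_num⟩
  have hp' : Fact (Nat.Prime 11) := ⟨by norm_num⟩
  obtain ⟨x, hx⟩ := exists_prime_orderOf_dvd_card' 23 (G := Spor.Co2) (by rw [c]; norm_num)
  obtain ⟨y, hy⟩ := exists_prime_orderOf_dvd_card' 11 (G := Spor.Co2) (by rw [c]; norm_num)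
  have main : ∀ θ : IrrCharacter Spor.Co2, 253 ∣ charDegree (θ : Spor.Co2 → ℂ) → 3 ≤ zc θ := by
    intro θ hθ
    refine three_of_isolated (r := 23) (n := 1839366144000) (e := 11) (m := 2) (by norm_num) hx (card_cent2 hx)
      (by rw [c]) (by rw [c]; norm_num) (by norm_num) (by norm_num) (by norm_num)
      ((by norm_num : 23 ∣ 253).trans hθ) (y := y) ?_ (by rw [hy]; norm_num)
    exact zero_of_dvd (p := 11) (by norm_num) (by rw [c]; norm_num) ((by norm_num : 11 ∣ 253).trans hθ) (by rw [hy])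
  refine ⟨χ, ψ, ?_, main χ (by rw [dχ]; norm_num), main ψ (by rw [dψ]; norm_num)⟩
  rintro rfl
  omega

/-- **the row of `Co2`** -/
theorem co2 {S : Type} [Group S] (h : Spor.IsoCo2 S) : RowT S := by
  obtain ⟨e⟩ := h
  have c : Nat.card Spor.Co2 = 42305421312000 := Cfsg.Agent.BiChar.Small.card_Co2
  have hfin : Finite Spor.Co2 := Nat.finite_of_card_ne_zero (by rw [c]; norm_num)
  have : Finite S := Finite.of_equiv _ e.symm.toEquiv
  exact RowT.of_equiv e ⟨row1_co2, row2_of_out_one Cfsg.Agent.S2070.result⟩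

open Cfsg.Agent.H419.Spor.Co1 Cfsg.Agent.CoOneType.CoOneE Cfsg.Agent.SporadicA.Co0Mono in
theorem row1_co1 : Row1 Spor.Co1 := by
  left
  have hfin : Finite Spor.Co1 := Cfsg.Agent.H419.Spor.Co1.finite_co1
  have c : Nat.card Spor.Co1 = 4157776806543360000 := Cfsg.Agent.S0399.result.2
  obtain ⟨χ, hχ, dχ⟩ := Cfsg.Agent.H843.IMC.Co1B.exists_276
  obtain ⟨ψ, dψ, -⟩ := Cfsg.Agent.H843.IMC.Co1B.exists_299
  have hp : Fact (Nat.Prime 23) := ⟨by norm_num⟩
  have hp' : Fact (Nat.Prime 13) := ⟨by norm_num⟩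
  obtain ⟨x, hx⟩ := exists_prime_orderOf_dvd_card' 23 (G := Spor.Co1) (by rw [c]; norm_num)
  obtain ⟨y, hy⟩ := exists_prime_orderOf_dvd_card' 13 (G := Spor.Co1) (by rw [c]; norm_num)
  refine ⟨χ, ψ, ?_, ?_, ?_⟩
  · rintro rfl
    omega
  · refine three_of_orders {23, 6, 12} (by decide) fun n hn => ?_
    simp only [Finset.mem_insert, Finset.mem_singleton] at hn
    rcases hn with rfl | rfl | rfl
    · exact ⟨x, hx, zero_of_dvd (p := 23) (by norm_num) (by rw [c]; norm_num) (by rw [dχ]; norm_num) (by rw [hx])⟩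
    · exact ⟨pr (permCo0 y6), order6, by rw [hχ, psi_perm y6_fix y6_fix2]⟩
    · exact ⟨pr (permCo0 y12), order12, by rw [hχ, psi_perm y12_fix y12_fix2]⟩
  · refine three_of_isolated (r := 23) (n := 180772904632320000) (e := 11) (m := 2) (by norm_num) hx
      (Cfsg.Agent.H547.SelfCent.Conway.co1 ⟨MulEquiv.refl _⟩ Cfsg.Agent.H393.Iso.na_co1_model hx)
      (by rw [c]) (by rw [c]; norm_num) (by norm_num) (by norm_num) (by norm_num)
      (by rw [dψ]; norm_num) (y := y) ?_ (by rw [hy]; norm_num)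
    exact zero_of_dvd (p := 13) (by norm_num) (by rw [c]; norm_num) (by rw [dψ]; norm_num) (by rw [hy])

/-- **the row of `Co1`** -/
theorem co1 {S : Type} [Group S] (h : Spor.IsoCo1 S) : RowT S := by
  obtain ⟨e⟩ := h
  have hfin : Finite Spor.Co1 := Cfsg.Agent.H419.Spor.Co1.finite_co1
  have : Finite S := Finite.of_equiv _ e.symm.toEquiv
  exact RowT.of_equiv e ⟨row1_co1, row2_of_out_one Cfsg.Agent.S2069.result⟩

end Cfsg.Agent.H978.TZ.Co12
end
end
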